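import Mathlib

set_option autoImplicit false
universe u
open TensorProduct

namespace Groth.Agent.Lib.Helper5.WeilP

section Alg
variable {R : Type u} [CommRing R] {C : Type u} [CommRing C] [Algebra R C]
  {n : ℕ} (c : Fin n → C) (ℓ : Fin n → C →ₗ[R] R) (hc : ∀ x : C, ∑ k, ℓ k x • c k = x)

/-- the `k`-th coordinate on `A ⊗ C`. -/
noncomputable def coord (A : Type u) [CommRing A] [Algebra R A] (k : Fin n) : A ⊗[R] C →ₗ[R] A :=
  (TensorProduct.rid R A).toLinearMap ∘ₗ (LinearMap.lTensor A (ℓ k))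

theorem coord_tmul (A : Type u) [CommRing A] [Algebra R A] (k : Fin n) (a : A) (x : C) :
    coord ℓ A k (a ⊗ₜ[R] x) = ℓ k x • a := by
  simp [coord]

include hc in
/-- expansion of an element of `A ⊗ C`. -/
theorem expand {A : Type u} [CommRing A] [Algebra R A] (x : A ⊗[R] C) :
    x = ∑ k, (coord ℓ A k x) ⊗ₜ[R] c k := by
  induction x using TensorProduct.induction_on with
  | zero => simp
  | tmul a y =>
    simp only [coord_tmul]
    conv_lhs => rw [← hc y, TensorProduct.tmul_sum]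
    refine Finset.sum_congr rfl fun k _ => ?_
    rw [TensorProduct.smul_tmul]
  | add x y hx hy =>
    conv_lhs => rw [hx, hy]
    rw [← Finset.sum_add_distrib]
    refine Finset.sum_congr rfl fun k _ => ?_
    rw [map_add, TensorProduct.add_tmul]

/-- naturality of coordinates -/
theorem coord_map {P A : Type u} [CommRing P] [Algebra R P] [CommRing A] [Algebra R A]
    (φ : P →ₐ[R] A) (x : P ⊗[R] C) (k : Fin n) :
    coord ℓ A k (Algebra.TensorProduct.map φ (AlgHom.id R C) x) = φ (coord ℓ P k x) := by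
  induction x using TensorProduct.induction_on with
  | zero => simp
  | tmul p y =>
    rw [Algebra.TensorProduct.map_tmul, coord_tmul, coord_tmul, map_smul]
    rfl
  | add x y hx hy => rw [map_add, map_add, hx, hy, map_add, map_add]

/-- coordinates of an explicit sum -/
theorem coord_sum {A : Type u} [CommRing A] [Algebra R A] (a : Fin n → A) (k : Fin n) :
    coord ℓ A k (∑ j, a j ⊗ₜ[R] c j) = ∑ j, ℓ k (c j) • a j := by
  rw [map_sum]
  refine Finset.sum_congr rfl fun j _ => ?_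
  rw [coord_tmul]

variable (B : Type u) [CommRing B] [Algebra R B]

/-- the canonical surjection `R[B] → B`. -/
noncomputable def piB : MvPolynomial B R →ₐ[R] B := MvPolynomial.aeval id

theorem piB_X (β : B) : piB (R := R) B (MvPolynomial.X β) = β := by simp [piB]

theorem piB_surj : Function.Surjective (piB (R := R) B) := fun β => ⟨MvPolynomial.X β, piB_X B β⟩

/-- the generic map `R[B] → R[y_{β,k}] ⊗ C`. -/
noncomputable def Utilde : MvPolynomial B R →ₐ[R] (MvPolynomial (B × Fin n) R) ⊗[R] C :=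
  MvPolynomial.aeval (fun β => ∑ k, (MvPolynomial.X (β, k) : MvPolynomial (B × Fin n) R) ⊗ₜ[R] c k)

theorem Utilde_X (β : B) :
    Utilde c B (MvPolynomial.X β)
      = ∑ k, (MvPolynomial.X (β, k) : MvPolynomial (B × Fin n) R) ⊗ₜ[R] c k := by
  simp [Utilde]

/-- the ideal of relations. -/
noncomputable def Jideal : Ideal (MvPolynomial (B × Fin n) R) :=
  Ideal.span ({ d | ∃ p ∈ RingHom.ker (piB (R := R) B).toRingHom, ∃ k : Fin n,
      d = coord ℓ (MvPolynomial (B × Fin n) R) k (Utilde c B p) } ∪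
    { d | ∃ (β : B) (k : Fin n), d = MvPolynomial.X (β, k)
      - ∑ j, ℓ k (c j) • (MvPolynomial.X (β, j) : MvPolynomial (B × Fin n) R) })

/-- the Weil restriction algebra. -/
abbrev WB : Type u := MvPolynomial (B × Fin n) R ⧸ Jideal c ℓ B

/-- the quotient map. -/
noncomputable abbrev qW : MvPolynomial (B × Fin n) R →ₐ[R] WB c ℓ B :=
  Ideal.Quotient.mkₐ R (Jideal c ℓ B)

include hc in
theorem ker_le : RingHom.ker (piB (R := R) B).toRingHom ≤
    RingHom.ker ((Algebra.TensorProduct.map (qW c ℓ B) (AlgHom.id R C)).comp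
      (Utilde c B)).toRingHom := by
  intro p hp
  rw [RingHom.mem_ker]
  change (Algebra.TensorProduct.map (qW c ℓ B) (AlgHom.id R C)) (Utilde c B p) = 0
  rw [expand c ℓ hc (Utilde c B p), map_sum]
  refine Finset.sum_eq_zero fun k _ => ?_
  rw [Algebra.TensorProduct.map_tmul]
  have : qW c ℓ B (coord ℓ (MvPolynomial (B × Fin n) R) k (Utilde c B p)) = 0 := by
    change Ideal.Quotient.mk _ _ = 0
    rw [Ideal.Quotient.eq_zero_iff_mem]
    exact Ideal.subset_span (Or.inl ⟨p, hp, k, rfl⟩)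
  rw [this, TensorProduct.zero_tmul]

theorem qW_rel (β : B) (k : Fin n) :
    qW c ℓ B (MvPolynomial.X (β, k))
      = ∑ j, ℓ k (c j) • qW c ℓ B (MvPolynomial.X (β, j)) := by
  have h : qW c ℓ B (MvPolynomial.X (β, k)
      - ∑ j, ℓ k (c j) • (MvPolynomial.X (β, j) : MvPolynomial (B × Fin n) R)) = 0 := by
    change Ideal.Quotient.mk _ _ = 0
    rw [Ideal.Quotient.eq_zero_iff_mem]
    exact Ideal.subset_span (Or.inr ⟨β, k, rfl⟩)
  rw [map_sub, sub_eq_zero, map_sum] at h
  rw [h]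
  refine Finset.sum_congr rfl fun j _ => ?_
  rw [map_smul]

/-- the universal map `B → W ⊗ C`. -/
noncomputable def uHom : B →ₐ[R] (WB c ℓ B) ⊗[R] C :=
  (Ideal.Quotient.liftₐ _
    ((Algebra.TensorProduct.map (qW c ℓ B) (AlgHom.id R C)).comp (Utilde c B))
      (ker_le c ℓ hc B)).comp
    (Ideal.quotientKerAlgEquivOfSurjective (piB_surj (R := R) B)).symm.toAlgHom

theorem uHom_piB (p : MvPolynomial B R) :
    uHom c ℓ hc B (piB B p)
      = Algebra.TensorProduct.map (qW c ℓ B) (AlgHom.id R C) (Utilde c B p) := by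
  have h1 : (Ideal.quotientKerAlgEquivOfSurjective (piB_surj (R := R) B)).symm (piB B p)
      = Ideal.Quotient.mk _ p := by
    rw [AlgEquiv.symm_apply_eq]
    rfl
  change (Ideal.Quotient.liftₐ (RingHom.ker (piB (R := R) B).toRingHom)
    ((Algebra.TensorProduct.map (qW c ℓ B) (AlgHom.id R C)).comp (Utilde c B)) (ker_le c ℓ hc B))
    ((Ideal.quotientKerAlgEquivOfSurjective (piB_surj (R := R) B)).symm (piB B p)) = _
  rw [h1]
  rfl

theorem uHom_apply (β : B) :
    uHom c ℓ hc B β = ∑ k, (qW c ℓ B (MvPolynomial.X (β, k))) ⊗ₜ[R] c k := by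
  rw [← piB_X (R := R) B β, uHom_piB, Utilde_X, map_sum]
  simp only [Algebra.TensorProduct.map_tmul, AlgHom.coe_id, id_eq, piB_X]

section UP
variable {B} {A : Type u} [CommRing A] [Algebra R A]

/-- the lift on polynomial level. -/
noncomputable def phiT (ψ : B →ₐ[R] A ⊗[R] C) : MvPolynomial (B × Fin n) R →ₐ[R] A :=
  MvPolynomial.aeval (fun βk : B × Fin n => coord ℓ A βk.2 (ψ βk.1))

include hc in
theorem phiT_comp (ψ : B →ₐ[R] A ⊗[R] C) :
    (Algebra.TensorProduct.map (phiT ℓ ψ) (AlgHom.id R C)).comp (Utilde c B) = ψ.comp (piB B) := by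
  apply MvPolynomial.algHom_ext
  intro β
  simp only [AlgHom.comp_apply, Utilde_X, piB_X, map_sum, Algebra.TensorProduct.map_tmul,
    AlgHom.coe_id, id_eq]
  simp only [phiT, MvPolynomial.aeval_X]
  exact (expand c ℓ hc (ψ β)).symm

include hc in
theorem phiT_kills (ψ : B →ₐ[R] A ⊗[R] C) : ∀ d ∈ Jideal c ℓ B, phiT ℓ ψ d = 0 := by
  intro d hd
  have : Jideal c ℓ B ≤ RingHom.ker (phiT ℓ ψ).toRingHom := by
    rw [Jideal, Ideal.span_le]
    rintro _ (⟨p, hp, k, rfl⟩ | ⟨β, k, rfl⟩)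
    · rw [SetLike.mem_coe, RingHom.mem_ker]
      change phiT ℓ ψ _ = 0
      rw [← coord_map ℓ (phiT ℓ ψ) (Utilde c B p) k]
      have h1 : Algebra.TensorProduct.map (phiT ℓ ψ) (AlgHom.id R C) (Utilde c B p)
          = ψ (piB B p) := congrArg (fun f => f p) (phiT_comp c ℓ hc ψ)
      rw [h1]
      have h2 : piB (R := R) B p = 0 := hp
      rw [h2, map_zero, map_zero]
    · rw [SetLike.mem_coe, RingHom.mem_ker]
      change phiT ℓ ψ _ = 0
      rw [map_sub, sub_eq_zero, map_sum]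
      simp only [map_smul, phiT, MvPolynomial.aeval_X]
      rw [← coord_sum c ℓ, ← expand c ℓ hc (ψ β)]
  exact this hd

/-- the lift. -/
noncomputable def phiW (ψ : B →ₐ[R] A ⊗[R] C) : WB c ℓ B →ₐ[R] A :=
  Ideal.Quotient.liftₐ (Jideal c ℓ B) (phiT ℓ ψ) (phiT_kills c ℓ hc ψ)

theorem phiW_q (ψ : B →ₐ[R] A ⊗[R] C) : (phiW c ℓ hc ψ).comp (qW c ℓ B) = phiT ℓ ψ := by
  ext x
  simp [phiW, qW]

theorem phiW_spec (ψ : B →ₐ[R] A ⊗[R] C) :
    (Algebra.TensorProduct.map (phiW c ℓ hc ψ) (AlgHom.id R C)).comp (uHom c ℓ hc B) = ψ := by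
  ext β
  obtain ⟨p, rfl⟩ := piB_surj (R := R) B β
  rw [AlgHom.comp_apply, uHom_piB]
  have h1 : Algebra.TensorProduct.map (phiT ℓ ψ) (AlgHom.id R C) (Utilde c B p) = ψ (piB B p) :=
    congrArg (fun f => f p) (phiT_comp c ℓ hc ψ)
  rw [← h1, ← phiW_q c ℓ hc ψ]
  rw [← AlgHom.comp_apply, ← Algebra.TensorProduct.map_comp]
  rfl

theorem phiW_unique (φ φ' : WB c ℓ B →ₐ[R] A)
    (h : (Algebra.TensorProduct.map φ (AlgHom.id R C)).comp (uHom c ℓ hc B)
      = (Algebra.TensorProduct.map φ' (AlgHom.id R C)).comp (uHom c ℓ hc B)) : φ = φ' := by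
  have key : ∀ (χ : WB c ℓ B →ₐ[R] A) (β : B) (k : Fin n),
      χ (qW c ℓ B (MvPolynomial.X (β, k))) =
        coord ℓ A k ((Algebra.TensorProduct.map χ (AlgHom.id R C)).comp (uHom c ℓ hc B) β) := by
    intro χ β k
    rw [AlgHom.comp_apply, uHom_apply, map_sum]
    simp only [Algebra.TensorProduct.map_tmul, AlgHom.coe_id, id_eq]
    rw [coord_sum, qW_rel, map_sum]
    refine Finset.sum_congr rfl fun j _ => ?_
    rw [map_smul]
  have h2 : φ.comp (qW c ℓ B) = φ'.comp (qW c ℓ B) := by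
    apply MvPolynomial.algHom_ext
    rintro ⟨β, k⟩
    rw [AlgHom.comp_apply, AlgHom.comp_apply, key φ β k, key φ' β k, h]
  ext x
  obtain ⟨y, rfl⟩ := Ideal.Quotient.mk_surjective x
  exact congrArg (fun f => f y) h2

end UP

end Alg

end Groth.Agent.Lib.Helper5.WeilP
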