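import Groth.Agent.Lib.Helper5.WeilP.LocRep
import Groth.Agent.Lib.Helper7.MorSBC
import Groth.Prelude.Def_Flatn

set_option autoImplicit false
universe u
open CategoryTheory CategoryTheory.Limits AlgebraicGeometry Opposite

namespace Groth.Agent.Lib.Helper5.WeilP

open Groth.Agent.Helper7.MorSBC Groth.Agent.Lib.Helper5.LocRep

variable {Z X S : Scheme.{u}} (g : Z ⟶ S) (f : X ⟶ S) (𝒰 : Scheme.OpenCover.{u} S)

section K
variable (T : Over S) (i : 𝒰.I₀)

/-- the `i`-th member of the induced cover of `T ×_S Z`. -/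
noncomputable abbrev QX : Scheme.{u} :=
  pullback (pullback.fst T.hom g) (pullback.snd (𝒰.f i) T.hom)

theorem kk_cond : pullback.snd (pullback.fst T.hom g) (pullback.snd (𝒰.f i) T.hom) ≫
      (pullback.fst (𝒰.f i) T.hom ≫ 𝒰.f i)
    = (pullback.fst (pullback.fst T.hom g) (pullback.snd (𝒰.f i) T.hom) ≫ pullback.snd T.hom g) ≫ g := by
  have c1 : pullback.fst (𝒰.f i) T.hom ≫ 𝒰.f i = pullback.snd (𝒰.f i) T.hom ≫ T.hom :=
    pullback.condition
  have c2 : pullback.fst (pullback.fst T.hom g) (pullback.snd (𝒰.f i) T.hom) ≫ pullback.fst T.hom g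
      = pullback.snd (pullback.fst T.hom g) (pullback.snd (𝒰.f i) T.hom) ≫
        pullback.snd (𝒰.f i) T.hom := pullback.condition
  have c3 : pullback.fst T.hom g ≫ T.hom = pullback.snd T.hom g ≫ g := pullback.condition
  rw [c1, ← Category.assoc, ← c2, Category.assoc, c3, Category.assoc]

/-- comparison with `T_i ×_S Z`. -/
noncomputable def kk : QX g 𝒰 T i ⟶ pullback (Tc 𝒰 T i).hom g :=
  pullback.lift (pullback.snd _ _) (pullback.fst _ _ ≫ pullback.snd T.hom g) (kk_cond g 𝒰 T i)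

theorem kk_fst : kk g 𝒰 T i ≫ pullback.fst (Tc 𝒰 T i).hom g = pullback.snd _ _ :=
  pullback.lift_fst _ _ _

theorem kk_snd : kk g 𝒰 T i ≫ pullback.snd (Tc 𝒰 T i).hom g
    = pullback.fst _ _ ≫ pullback.snd T.hom g := pullback.lift_snd _ _ _

theorem kk_pmap : kk g 𝒰 T i ≫ pmap g (Tι 𝒰 T i)
    = pullback.fst (pullback.fst T.hom g) (pullback.snd (𝒰.f i) T.hom) := by
  apply pullback.hom_ext
  · rw [Category.assoc, pmap_fst, ← Category.assoc, kk_fst, Tι_left]
    exact pullback.condition.symm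
  · rw [Category.assoc, pmap_snd, kk_snd]

/-- the inverse comparison. -/
noncomputable def kinv : pullback (Tc 𝒰 T i).hom g ⟶ QX g 𝒰 T i :=
  pullback.lift (pmap g (Tι 𝒰 T i)) (pullback.fst (Tc 𝒰 T i).hom g) (by
    rw [pmap_fst, Tι_left])

theorem kinv_kk : kinv g 𝒰 T i ≫ kk g 𝒰 T i = 𝟙 _ := by
  apply pullback.hom_ext
  · rw [Category.assoc, kk_fst, Category.id_comp]
    exact pullback.lift_snd _ _ _
  · rw [Category.assoc, kk_snd, Category.id_comp, ← Category.assoc]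
    have : kinv g 𝒰 T i ≫ pullback.fst (pullback.fst T.hom g) (pullback.snd (𝒰.f i) T.hom)
        = pmap g (Tι 𝒰 T i) := pullback.lift_fst _ _ _
    rw [this, pmap_snd]

end K

/-- the induced cover of `T ×_S Z`. -/
noncomputable def QQ (T : Over S) : Scheme.OpenCover.{u} (pullback T.hom g) :=
  (𝒰.pullback₂ T.hom).pullback₁ (pullback.fst T.hom g)

theorem morS_sep (T : Over S) (b b' : (Flatn.morS g f).obj (op T))
    (h : ∀ i, (Flatn.morS g f).map (Tι 𝒰 T i).op b = (Flatn.morS g f).map (Tι 𝒰 T i).op b') :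
    b = b' := by
  apply Over.OverMorphism.ext
  apply Scheme.Cover.hom_ext (QQ g 𝒰 T)
  intro i
  change pullback.fst (pullback.fst T.hom g) (pullback.snd (𝒰.f i) T.hom) ≫ b.left
    = pullback.fst (pullback.fst T.hom g) (pullback.snd (𝒰.f i) T.hom) ≫ b'.left
  rw [← kk_pmap g 𝒰 T i, Category.assoc, Category.assoc, ← morS_map_left, ← morS_map_left, h i]

theorem morS_glue (T : Over S) (b : ∀ i, (Flatn.morS g f).obj (op (Tc 𝒰 T i)))
    (hb : ∀ (i j : 𝒰.I₀) (T₀ : Scheme.{u}) (t : T₀ ⟶ S) (a₁ : T₀ ⟶ pullback (𝒰.f i) T.hom)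
      (a₂ : T₀ ⟶ pullback (𝒰.f j) T.hom)
      (h₁ : a₁ ≫ (pullback.fst (𝒰.f i) T.hom ≫ 𝒰.f i) = t)
      (h₂ : a₂ ≫ (pullback.fst (𝒰.f j) T.hom ≫ 𝒰.f j) = t)
      (_ : a₁ ≫ pullback.snd (𝒰.f i) T.hom = a₂ ≫ pullback.snd (𝒰.f j) T.hom),
      (Flatn.morS g f).map (Over.homMk a₁ h₁ : Over.mk t ⟶ Tc 𝒰 T i).op (b i)
        = (Flatn.morS g f).map (Over.homMk a₂ h₂ : Over.mk t ⟶ Tc 𝒰 T j).op (b j)) :
    ∃ β : (Flatn.morS g f).obj (op T), ∀ i, (Flatn.morS g f).map (Tι 𝒰 T i).op β = b i := by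
  -- the local morphisms
  let c : ∀ i : 𝒰.I₀, QX g 𝒰 T i ⟶ X := fun i => kk g 𝒰 T i ≫ (b i).left
  have hov : ∀ i j : 𝒰.I₀,
      pullback.fst (pullback.fst (pullback.fst T.hom g) (pullback.snd (𝒰.f i) T.hom))
        (pullback.fst (pullback.fst T.hom g) (pullback.snd (𝒰.f j) T.hom)) ≫ c i
      = pullback.snd (pullback.fst (pullback.fst T.hom g) (pullback.snd (𝒰.f i) T.hom))
        (pullback.fst (pullback.fst T.hom g) (pullback.snd (𝒰.f j) T.hom)) ≫ c j := by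
    intro i j
    set π₁ := pullback.fst (pullback.fst (pullback.fst T.hom g) (pullback.snd (𝒰.f i) T.hom))
        (pullback.fst (pullback.fst T.hom g) (pullback.snd (𝒰.f j) T.hom)) with hπ₁
    set π₂ := pullback.snd (pullback.fst (pullback.fst T.hom g) (pullback.snd (𝒰.f i) T.hom))
        (pullback.fst (pullback.fst T.hom g) (pullback.snd (𝒰.f j) T.hom)) with hπ₂
    have hπ : π₁ ≫ pullback.fst (pullback.fst T.hom g) (pullback.snd (𝒰.f i) T.hom)
        = π₂ ≫ pullback.fst (pullback.fst T.hom g) (pullback.snd (𝒰.f j) T.hom) :=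
      pullback.condition
    let a₁ := π₁ ≫ pullback.snd (pullback.fst T.hom g) (pullback.snd (𝒰.f i) T.hom)
    let a₂ := π₂ ≫ pullback.snd (pullback.fst T.hom g) (pullback.snd (𝒰.f j) T.hom)
    have c2i : pullback.fst (pullback.fst T.hom g) (pullback.snd (𝒰.f i) T.hom) ≫ pullback.fst T.hom g
        = pullback.snd (pullback.fst T.hom g) (pullback.snd (𝒰.f i) T.hom) ≫
          pullback.snd (𝒰.f i) T.hom := pullback.condition
    have c2j : pullback.fst (pullback.fst T.hom g) (pullback.snd (𝒰.f j) T.hom) ≫ pullback.fst T.hom g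
        = pullback.snd (pullback.fst T.hom g) (pullback.snd (𝒰.f j) T.hom) ≫
          pullback.snd (𝒰.f j) T.hom := pullback.condition
    have ha : a₁ ≫ pullback.snd (𝒰.f i) T.hom = a₂ ≫ pullback.snd (𝒰.f j) T.hom := by
      simp only [a₁, a₂, Category.assoc]
      rw [← c2i, ← c2j, ← Category.assoc, hπ, Category.assoc]
    have c1i : pullback.fst (𝒰.f i) T.hom ≫ 𝒰.f i = pullback.snd (𝒰.f i) T.hom ≫ T.hom :=
      pullback.condition
    have c1j : pullback.fst (𝒰.f j) T.hom ≫ 𝒰.f j = pullback.snd (𝒰.f j) T.hom ≫ T.hom :=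
      pullback.condition
    obtain ⟨t₀, ht₀⟩ : ∃ t₀, a₁ ≫ (pullback.fst (𝒰.f i) T.hom ≫ 𝒰.f i) = t₀ := ⟨_, rfl⟩
    have h₂ : a₂ ≫ (pullback.fst (𝒰.f j) T.hom ≫ 𝒰.f j) = t₀ := by
      rw [← ht₀, c1i, c1j, ← Category.assoc, ← Category.assoc, ha]
    have hcompat := hb i j _ t₀ a₁ a₂ ht₀ h₂ ha
    have hcompat' : pmap g (Over.homMk a₁ ht₀ : Over.mk t₀ ⟶ Tc 𝒰 T i) ≫ (b i).left
        = pmap g (Over.homMk a₂ h₂ : Over.mk t₀ ⟶ Tc 𝒰 T j) ≫ (b j).left :=
      congrArg (fun m => m.left) hcompat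
    -- the section
    have c3 : pullback.fst T.hom g ≫ T.hom = pullback.snd T.hom g ≫ g := pullback.condition
    have hσ : 𝟙 _ ≫ t₀
        = (π₁ ≫ pullback.fst (pullback.fst T.hom g) (pullback.snd (𝒰.f i) T.hom) ≫
          pullback.snd T.hom g) ≫ g := by
      rw [Category.id_comp, ← ht₀, c1i]
      simp only [a₁, Category.assoc]
      rw [← c3, ← Category.assoc (pullback.fst (pullback.fst T.hom g) (pullback.snd (𝒰.f i) T.hom)),
        c2i, Category.assoc]
    let σ : pullback (pullback.fst (pullback.fst T.hom g) (pullback.snd (𝒰.f i) T.hom))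
        (pullback.fst (pullback.fst T.hom g) (pullback.snd (𝒰.f j) T.hom)) ⟶ pullback t₀ g :=
      pullback.lift (𝟙 _) (π₁ ≫ pullback.fst (pullback.fst T.hom g) (pullback.snd (𝒰.f i) T.hom) ≫
          pullback.snd T.hom g) hσ
    have eσ1 : σ ≫ pullback.fst t₀ g = 𝟙 _ := pullback.lift_fst _ _ _
    have eσ2 : σ ≫ pullback.snd t₀ g
        = π₁ ≫ pullback.fst (pullback.fst T.hom g) (pullback.snd (𝒰.f i) T.hom) ≫
          pullback.snd T.hom g := pullback.lift_snd _ _ _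
    have hσ1 : σ ≫ pmap g (Over.homMk a₁ ht₀ : Over.mk t₀ ⟶ Tc 𝒰 T i) = π₁ ≫ kk g 𝒰 T i := by
      apply pullback.hom_ext
      · have e1 : pmap g (Over.homMk a₁ ht₀ : Over.mk t₀ ⟶ Tc 𝒰 T i) ≫
            pullback.fst (Tc 𝒰 T i).hom g = pullback.fst t₀ g ≫ a₁ := pmap_fst g _
        rw [Category.assoc, e1, ← Category.assoc, eσ1, Category.id_comp, Category.assoc, kk_fst]
      · have e1 : pmap g (Over.homMk a₁ ht₀ : Over.mk t₀ ⟶ Tc 𝒰 T i) ≫
            pullback.snd (Tc 𝒰 T i).hom g = pullback.snd t₀ g := pmap_snd g _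
        rw [Category.assoc, e1, eσ2, Category.assoc, kk_snd]
    have hσ2 : σ ≫ pmap g (Over.homMk a₂ h₂ : Over.mk t₀ ⟶ Tc 𝒰 T j) = π₂ ≫ kk g 𝒰 T j := by
      apply pullback.hom_ext
      · have e1 : pmap g (Over.homMk a₂ h₂ : Over.mk t₀ ⟶ Tc 𝒰 T j) ≫
            pullback.fst (Tc 𝒰 T j).hom g = pullback.fst t₀ g ≫ a₂ := pmap_fst g _
        rw [Category.assoc, e1, ← Category.assoc, eσ1, Category.id_comp, Category.assoc, kk_fst]
      · have e1 : pmap g (Over.homMk a₂ h₂ : Over.mk t₀ ⟶ Tc 𝒰 T j) ≫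
            pullback.snd (Tc 𝒰 T j).hom g = pullback.snd t₀ g := pmap_snd g _
        rw [Category.assoc, e1, eσ2, Category.assoc, kk_snd, ← Category.assoc, hπ, Category.assoc]
    change π₁ ≫ kk g 𝒰 T i ≫ (b i).left = π₂ ≫ kk g 𝒰 T j ≫ (b j).left
    rw [← Category.assoc, ← hσ1, ← Category.assoc π₂, ← hσ2, Category.assoc, Category.assoc,
      hcompat']
  let cc : pullback T.hom g ⟶ X :=
    Scheme.Cover.glueMorphisms (QQ g 𝒰 T) c (fun i j => hov i j)
  have hgl : ∀ i : 𝒰.I₀, pullback.fst (pullback.fst T.hom g) (pullback.snd (𝒰.f i) T.hom) ≫ cc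
      = c i := fun i => Scheme.Cover.ι_glueMorphisms (QQ g 𝒰 T) c (fun i j => hov i j) i
  have hcc : cc ≫ f = pullback.snd T.hom g ≫ g := by
    apply Scheme.Cover.hom_ext (QQ g 𝒰 T)
    intro i
    change pullback.fst (pullback.fst T.hom g) (pullback.snd (𝒰.f i) T.hom) ≫ cc ≫ f
      = pullback.fst (pullback.fst T.hom g) (pullback.snd (𝒰.f i) T.hom) ≫ pullback.snd T.hom g ≫ g
    rw [← Category.assoc, hgl i]
    change (kk g 𝒰 T i ≫ (b i).left) ≫ f = _
    rw [Category.assoc]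
    have hw : (b i).left ≫ f = pullback.snd (Tc 𝒰 T i).hom g ≫ g := Over.w (b i)
    rw [hw, ← Category.assoc, kk_snd, Category.assoc]
  let β : (Flatn.morS g f).obj (op T) :=
    Over.homMk (U := (Over.map g).obj ((Over.pullback g).obj T)) (V := Over.mk f) cc hcc
  refine ⟨β, fun i => ?_⟩
  apply Over.OverMorphism.ext
  rw [morS_map_left]
  change pmap g (Tι 𝒰 T i) ≫ cc = (b i).left
  have h1 : kk g 𝒰 T i ≫ pmap g (Tι 𝒰 T i) ≫ cc = kk g 𝒰 T i ≫ (b i).left := by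
    rw [← Category.assoc, kk_pmap, hgl i]
  have h2 := congrArg (fun m => kinv g 𝒰 T i ≫ m) h1
  simpa only [← Category.assoc, kinv_kk, Category.id_comp] using h2

/-- `morS` is a Zariski sheaf relative to any open cover of the base. -/
theorem morS_isLocSheaf : IsLocSheaf 𝒰 (Flatn.morS g f) where
  sep := morS_sep g f 𝒰
  glue := morS_glue g f 𝒰

end Groth.Agent.Lib.Helper5.WeilP
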