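import Groth.Agent.Lib.Helper5.WeilP.Loc
import Groth.Agent.Lib.Helper5.WeilP.Sheaf

set_option autoImplicit false
universe u
open CategoryTheory CategoryTheory.Limits AlgebraicGeometry Opposite

namespace Groth.Agent.Lib.Helper5.WeilP

open Groth.Agent.Lib.Helper5.LocRep

/-- Weil restriction along a finite locally free morphism of an affine morphism. -/
theorem weil_global {Z X S : Scheme.{u}} (g : Z ⟶ S) (f : X ⟶ S) (hg : Mor2.IsFinLocFree g)
    [IsAffineHom f] :
    ∃ W : Over S, IsAffineHom W.hom ∧ Nonempty ((Flatn.morS g f).RepresentableBy W) := by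
  let 𝒰 : Scheme.OpenCover.{u} S := S.affineCover
  haveI : ∀ i, IsAffine (𝒰.X i) := fun i => by
    change IsAffine (S.affineCover.X i)
    infer_instance
  have hloc : ∀ i, ∃ W : Over (𝒰.X i), IsAffine W.left ∧
      Nonempty (((Over.map (𝒰.f i)).op ⋙ Flatn.morS g f).RepresentableBy W) :=
    fun i => locRep g f hg (𝒰.f i)
  choose W hWaff hWrep using hloc
  obtain ⟨E, ⟨r⟩, hE⟩ := representable_of_local (morS_isLocSheaf g f 𝒰) W
    (fun i => (hWrep i).some)
  refine ⟨E, ?_, ⟨r⟩⟩
  rw [IsZariskiLocalAtTarget.iff_of_openCover (P := @IsAffineHom) 𝒰]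
  intro i
  obtain ⟨ei⟩ := hE i
  haveI h0 : IsAffine ((Over.forget (𝒰.X i)).obj (W i)) := hWaff i
  haveI : IsAffine (pullback (𝒰.f i) E.hom) :=
    IsAffine.of_isIso (Y := (Over.forget (𝒰.X i)).obj (W i)) ((Over.forget _).mapIso ei).hom
  haveI : IsAffine (pullback E.hom (𝒰.f i)) :=
    IsAffine.of_isIso (pullbackSymmetry E.hom (𝒰.f i)).hom
  change IsAffineHom (pullback.snd E.hom (𝒰.f i))
  infer_instance

end Groth.Agent.Lib.Helper5.WeilP
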