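import Groth.Agent.Lib.Helper5.Weil.Geo
import Groth.Agent.Lib.Helper5.WeilP.AlgCat

set_option autoImplicit false
universe u
open CategoryTheory CategoryTheory.Limits AlgebraicGeometry Opposite

namespace Groth.Agent.Lib.Helper5.WeilP

open Groth.Agent.Lib.Helper5.Weil

/-- Weil restriction for affine schemes, finite projective case. -/
theorem representableP {Z X S : Scheme.{u}} [IsAffine Z] [IsAffine X] [IsAffine S] (g : Z ⟶ S)
    (f : X ⟶ S)
    (hproj : letI := (g.appTop).hom.toAlgebra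
      Module.Finite Γ(S, ⊤) Γ(Z, ⊤) ∧ Module.Projective Γ(S, ⊤) Γ(Z, ⊤)) :
    ∃ W : Over S, IsAffine W.left ∧ Nonempty ((Flatn.morS g f).RepresentableBy W) := by
  obtain ⟨W₀, w₀, h⟩ := weil_algP g.appTop f.appTop hproj
  obtain ⟨uu, huu, hUP⟩ := h _ _ _ (isPushout_W g w₀)
  refine ⟨Wobj w₀, (inferInstance : IsAffine (Spec W₀)), ⟨?_⟩⟩
  exact
    { homEquiv := fun {T} => Equiv.ofBijective (tau g f w₀ uu huu T)
        ⟨tau_inj g f w₀ uu huu hUP T, tau_surj g f w₀ uu huu hUP T⟩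
      homEquiv_comp := fun s t => tau_comp g f w₀ uu huu s t }

end Groth.Agent.Lib.Helper5.WeilP
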