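import Groth.Agent.Lib.Helper5.WeilP.Aff
import Groth.Agent.Lib.Helper7.MorSBC
import Groth.Prelude.Def_Mor2

set_option autoImplicit false
universe u
open CategoryTheory CategoryTheory.Limits AlgebraicGeometry Opposite

namespace Groth.Agent.Lib.Helper5.WeilP

open Groth.Agent.Helper7.MorSBC

/-- a finite flat finitely presented morphism of affine schemes is finite projective on sections. -/
theorem proj_of_finLocFree {Z U : Scheme.{u}} [IsAffine Z] [IsAffine U] (g : Z ⟶ U)
    [IsFinite g] [Flat g] [LocallyOfFinitePresentation g] :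
    letI := (g.appTop).hom.toAlgebra
    Module.Finite Γ(U, ⊤) Γ(Z, ⊤) ∧ Module.Projective Γ(U, ⊤) Γ(Z, ⊤) := by
  letI := (g.appTop).hom.toAlgebra
  have h1 : Module.Finite Γ(U, ⊤) Γ(Z, ⊤) := g.finite_appTop
  have h2 : Module.Flat Γ(U, ⊤) Γ(Z, ⊤) := g.flat_appTop
  have h3 : Algebra.FinitePresentation Γ(U, ⊤) Γ(Z, ⊤) := g.finitePresentation_appTop
  have h4 : Module.FinitePresentation Γ(U, ⊤) Γ(Z, ⊤) :=
    (Module.FinitePresentation.iff_finitePresentation_of_finite (R := Γ(U, ⊤))
      (S := Γ(Z, ⊤))).mpr h3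
  exact ⟨h1, Module.Flat.projective_of_finitePresentation⟩

/-- transport of representability along helper7's base change bijection. -/
noncomputable def repOfBC {Z X S U : Scheme.{u}} (g : Z ⟶ S) (f : X ⟶ S) (h : U ⟶ S) (W : Over U)
    (r : (Flatn.morS (pullback.snd g h) (pullback.snd f h)).RepresentableBy W) :
    ((Over.map h).op ⋙ Flatn.morS g f).RepresentableBy W where
  homEquiv {T'} := r.homEquiv.trans (E g f h T').symm
  homEquiv_comp {T'' T'} s t := by
    change (E g f h T'').symm (r.homEquiv (s ≫ t))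
      = (Flatn.morS g f).map ((Over.map h).map s).op ((E g f h T').symm (r.homEquiv t))
    rw [Equiv.symm_apply_eq, E_naturality, Equiv.apply_symm_apply, r.homEquiv_comp]

/-- local representability of `morS` over an affine scheme mapping to the base. -/
theorem locRep {Z X S : Scheme.{u}} (g : Z ⟶ S) (f : X ⟶ S) (hg : Mor2.IsFinLocFree g)
    [IsAffineHom f] {U : Scheme.{u}} [IsAffine U] (h : U ⟶ S) :
    ∃ W : Over U, IsAffine W.left ∧
      Nonempty (((Over.map h).op ⋙ Flatn.morS g f).RepresentableBy W) := by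
  obtain ⟨hg1, hg2, hg3⟩ := hg
  haveI := hg1
  haveI := hg2
  haveI := hg3
  haveI : IsAffine (pullback g h) := isAffine_of_isAffineHom (pullback.snd g h)
  haveI : IsAffine (pullback f h) := isAffine_of_isAffineHom (pullback.snd f h)
  obtain ⟨W, hW, ⟨r⟩⟩ := representableP (pullback.snd g h) (pullback.snd f h)
    (proj_of_finLocFree (pullback.snd g h))
  exact ⟨W, hW, ⟨repOfBC g f h W r⟩⟩

end Groth.Agent.Lib.Helper5.WeilP
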