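import Mathlib
import Groth.Prelude.Def_DescFam
import Groth.Agent.Lib.Helper2.Desc.Restrict

set_option autoImplicit false
universe u
open CategoryTheory CategoryTheory.Limits AlgebraicGeometry Opposite Desc

namespace Groth.Agent.Lib.Helper5.LocRep

variable {S : Scheme.{u}} (𝒰 : Scheme.OpenCover.{u} S) (F : (Over S)ᵒᵖ ⥤ Type u)

section Cover
variable (T : Over S)

/-- the `i`-th piece of `T`, over `𝒰.X i`. -/
noncomputable abbrev Tp (i : 𝒰.I₀) : Over (𝒰.X i) := Over.mk (pullback.fst (𝒰.f i) T.hom)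

/-- the `i`-th piece of `T`, over `S`. -/
noncomputable abbrev Tc (i : 𝒰.I₀) : Over S := Over.mk (pullback.fst (𝒰.f i) T.hom ≫ 𝒰.f i)

/-- the inclusion of the `i`-th piece. -/
noncomputable def Tι (i : 𝒰.I₀) : Tc 𝒰 T i ⟶ T :=
  Over.homMk (pullback.snd (𝒰.f i) T.hom) pullback.condition.symm

@[simp] theorem Tι_left (i : 𝒰.I₀) : (Tι 𝒰 T i).left = pullback.snd (𝒰.f i) T.hom := rfl

end Cover

/-- the Zariski sheaf condition relative to the cover `𝒰`. -/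
structure IsLocSheaf : Prop where
  sep : ∀ (T : Over S) (b b' : F.obj (op T)),
    (∀ i, F.map (Tι 𝒰 T i).op b = F.map (Tι 𝒰 T i).op b') → b = b'
  glue : ∀ (T : Over S) (b : ∀ i, F.obj (op (Tc 𝒰 T i))),
    (∀ (i j : 𝒰.I₀) (T₀ : Scheme.{u}) (t : T₀ ⟶ S) (a₁ : T₀ ⟶ pullback (𝒰.f i) T.hom)
      (a₂ : T₀ ⟶ pullback (𝒰.f j) T.hom)
      (h₁ : a₁ ≫ (pullback.fst (𝒰.f i) T.hom ≫ 𝒰.f i) = t)
      (h₂ : a₂ ≫ (pullback.fst (𝒰.f j) T.hom ≫ 𝒰.f j) = t)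
      (_ : a₁ ≫ pullback.snd (𝒰.f i) T.hom = a₂ ≫ pullback.snd (𝒰.f j) T.hom),
      F.map (Over.homMk a₁ h₁ : Over.mk t ⟶ Tc 𝒰 T i).op (b i)
        = F.map (Over.homMk a₂ h₂ : Over.mk t ⟶ Tc 𝒰 T j).op (b j)) →
    ∃ β : F.obj (op T), ∀ i, F.map (Tι 𝒰 T i).op β = b i

section DD
variable {𝒰 F} (W : ∀ i, Over (𝒰.X i))
  (κ : ∀ i, ((Over.map (𝒰.f i)).op ⋙ F).RepresentableBy (W i))

/-- lifts as morphisms. -/
def liftsEquiv {Y : Scheme.{u}} (V : Over Y) {T₀ : Scheme.{u}} (x : T₀ ⟶ Y) :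
    Lifts V x ≃ (Over.mk x ⟶ V) where
  toFun v := Over.homMk v.1 v.2
  invFun m := ⟨m.left, Over.w m⟩
  left_inv _ := rfl
  right_inv _ := rfl

/-- points of `W i` over `x` as sections of `F`. -/
noncomputable def Φ (i : 𝒰.I₀) {T₀ : Scheme.{u}} (x : T₀ ⟶ 𝒰.X i) (t : T₀ ⟶ S)
    (h : x ≫ 𝒰.f i = t) : Lifts (W i) x ≃ F.obj (op (Over.mk t)) :=
  ((liftsEquiv (W i) x).trans ((κ i).homEquiv (X := Over.mk x))).trans
    (Equiv.cast (congrArg (fun s => F.obj (op (Over.mk s))) h))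

theorem Φ_rfl (i : 𝒰.I₀) {T₀ : Scheme.{u}} (x : T₀ ⟶ 𝒰.X i) (v : Lifts (W i) x) :
    Φ W κ i x (x ≫ 𝒰.f i) rfl v = (κ i).homEquiv (liftsEquiv (W i) x v) := rfl

theorem Φ_nat (i : 𝒰.I₀) {T₀ T₁ : Scheme.{u}} (g : T₁ ⟶ T₀) (x : T₀ ⟶ 𝒰.X i) (t : T₀ ⟶ S)
    (h : x ≫ 𝒰.f i = t) (y : T₁ ⟶ 𝒰.X i) (hy : g ≫ x = y) (t' : T₁ ⟶ S) (ht' : g ≫ t = t')
    (h' : y ≫ 𝒰.f i = t') (v : Lifts (W i) x) (v' : Lifts (W i) y) (hv : v'.1 = g ≫ v.1) :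
    Φ W κ i y t' h' v' = F.map (Over.homMk g ht' : Over.mk t' ⟶ Over.mk t).op (Φ W κ i x t h v) := by
  subst h' hy h
  have hv' : v' = ⟨g ≫ v.1, by rw [Category.assoc, v.2]⟩ := Subtype.ext hv
  subst hv'
  rw [Φ_rfl, Φ_rfl]
  have h1 := (κ i).homEquiv_comp (Over.homMk g rfl : Over.mk (g ≫ x) ⟶ Over.mk x)
    (liftsEquiv (W i) x v)
  exact h1

/-- the gluing bijections, with the common image in `S` made explicit. -/
noncomputable def φaux {T₀ : Scheme.{u}} {i j : 𝒰.I₀} (x₀ : T₀ ⟶ 𝒰.X i) (x₁ : T₀ ⟶ 𝒰.X j)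
    (t : T₀ ⟶ S) (h₀ : x₀ ≫ 𝒰.f i = t) (h₁ : x₁ ≫ 𝒰.f j = t) :
    Lifts (W i) x₀ ≃ Lifts (W j) x₁ :=
  (Φ W κ i x₀ t h₀).trans (Φ W κ j x₁ t h₁).symm

theorem φaux_irrel {T₀ : Scheme.{u}} {i j : 𝒰.I₀} (x₀ : T₀ ⟶ 𝒰.X i) (x₁ : T₀ ⟶ 𝒰.X j)
    (t t' : T₀ ⟶ S) (e : t = t') (h₀ : x₀ ≫ 𝒰.f i = t) (h₁ : x₁ ≫ 𝒰.f j = t)
    (h₀' : x₀ ≫ 𝒰.f i = t') (h₁' : x₁ ≫ 𝒰.f j = t') :
    φaux W κ x₀ x₁ t h₀ h₁ = φaux W κ x₀ x₁ t' h₀' h₁' := by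
  subst e
  rfl

theorem φaux_spec {T₀ : Scheme.{u}} {i j : 𝒰.I₀} (x₀ : T₀ ⟶ 𝒰.X i) (x₁ : T₀ ⟶ 𝒰.X j)
    (t : T₀ ⟶ S) (h₀ : x₀ ≫ 𝒰.f i = t) (h₁ : x₁ ≫ 𝒰.f j = t) (v : Lifts (W i) x₀) :
    Φ W κ j x₁ t h₁ (φaux W κ x₀ x₁ t h₀ h₁ v) = Φ W κ i x₀ t h₀ v := by
  simp [φaux]

theorem φaux_eq_iff {T₀ : Scheme.{u}} {i j : 𝒰.I₀} (x₀ : T₀ ⟶ 𝒰.X i) (x₁ : T₀ ⟶ 𝒰.X j)
    (t : T₀ ⟶ S) (h₀ : x₀ ≫ 𝒰.f i = t) (h₁ : x₁ ≫ 𝒰.f j = t) (v : Lifts (W i) x₀)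
    (w : Lifts (W j) x₁) :
    φaux W κ x₀ x₁ t h₀ h₁ v = w ↔ Φ W κ i x₀ t h₀ v = Φ W κ j x₁ t h₁ w := by
  rw [φaux, Equiv.trans_apply, Equiv.symm_apply_eq]

/-- the descent datum attached to local representing objects. -/
noncomputable def DD : SchDDFam 𝒰.f where
  obj := W
  φ _ _ _ x₀ x₁ h := φaux W κ x₀ x₁ (x₁ ≫ 𝒰.f _) h rfl
  φ_natural T₀ T₁ g i j x₀ x₁ h y₀ y₁ hy₀ hy₁ h' v v' hv := by
    have hw : (φaux W κ y₀ y₁ (y₁ ≫ 𝒰.f j) h' rfl v')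
        = ⟨g ≫ (φaux W κ x₀ x₁ (x₁ ≫ 𝒰.f j) h rfl v).1, by
            rw [Category.assoc, (φaux W κ x₀ x₁ (x₁ ≫ 𝒰.f j) h rfl v).2, hy₁]⟩ := by
      rw [φaux_eq_iff]
      have ht' : g ≫ (x₁ ≫ 𝒰.f j) = y₁ ≫ 𝒰.f j := by rw [← hy₁, Category.assoc]
      rw [Φ_nat W κ i g x₀ (x₁ ≫ 𝒰.f j) h y₀ hy₀ (y₁ ≫ 𝒰.f j) ht' h' v v' hv,
        Φ_nat W κ j g x₁ (x₁ ≫ 𝒰.f j) rfl y₁ hy₁ (y₁ ≫ 𝒰.f j) ht' rfl
          (φaux W κ x₀ x₁ (x₁ ≫ 𝒰.f j) h rfl v) _ rfl, φaux_spec]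
    exact congrArg Subtype.val hw
  φ_self T₀ i x v := by simp [φaux]
  φ_comp T₀ i j k x₀ x₁ x₂ h₀₁ h₁₂ v := by
    rw [φaux_irrel W κ x₀ x₁ (x₁ ≫ 𝒰.f j) (x₂ ≫ 𝒰.f k) h₁₂ h₀₁ rfl (h₀₁.trans h₁₂) h₁₂]
    simp [φaux]

@[simp] theorem DD_obj (i : 𝒰.I₀) : (DD W κ).obj i = W i := rfl

theorem DD_φ {T₀ : Scheme.{u}} {i j : 𝒰.I₀} (x₀ : T₀ ⟶ 𝒰.X i) (x₁ : T₀ ⟶ 𝒰.X j)
    (t : T₀ ⟶ S) (h₀ : x₀ ≫ 𝒰.f i = t) (h₁ : x₁ ≫ 𝒰.f j = t) (v : Lifts (W i) x₀) :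
    (DD W κ).φ x₀ x₁ (h₀.trans h₁.symm) v = φaux W κ x₀ x₁ t h₀ h₁ v := by
  change φaux W κ x₀ x₁ (x₁ ≫ 𝒰.f j) _ rfl v = _
  rw [φaux_irrel W κ x₀ x₁ (x₁ ≫ 𝒰.f j) t h₁ _ rfl h₀ h₁]

theorem DD_effective : (DD W κ).IsEffective :=
  Groth.Agent.Helper2.DescRestr.isEffective_of_zariski (U := 𝒰.X) (β := id) 𝒰.f
    (fun k => 𝒰.map_prop k) (fun s => by
      obtain ⟨i, y, hy⟩ := 𝒰.exists_eq s
      exact ⟨i, y, hy⟩) (DD W κ)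

end DD

section Main
variable {𝒰 F} (hF : IsLocSheaf 𝒰 F) (W : ∀ i, Over (𝒰.X i))
  (κ : ∀ i, ((Over.map (𝒰.f i)).op ⋙ F).RepresentableBy (W i))
  (E : Over S) (e : (toDDFam 𝒰.f).obj E ≅ DD W κ)

/-- the local comparison morphisms. -/
noncomputable def eHom (i : 𝒰.I₀) : Tp 𝒰 E i ⟶ W i := e.hom.hom i

/-- the inverse local comparison morphisms. -/
noncomputable def eInv (i : 𝒰.I₀) : W i ⟶ Tp 𝒰 E i := e.inv.hom i

theorem eHom_eInv (i : 𝒰.I₀) : eHom W κ E e i ≫ eInv W κ E e i = 𝟙 _ := by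
  have h := congrArg (fun a => a.hom i) e.hom_inv_id
  exact h

theorem eInv_eHom (i : 𝒰.I₀) : eInv W κ E e i ≫ eHom W κ E e i = 𝟙 _ := by
  have h := congrArg (fun a => a.hom i) e.inv_hom_id
  exact h

/-- the local comparison isomorphisms. -/
noncomputable def eIso (i : 𝒰.I₀) : Tp 𝒰 E i ≅ W i where
  hom := eHom W κ E e i
  inv := eInv W κ E e i
  hom_inv_id := eHom_eInv W κ E e i
  inv_hom_id := eInv_eHom W κ E e i

/-- the local universal elements. -/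
noncomputable def xiLoc (i : 𝒰.I₀) : F.obj (op (Tc 𝒰 E i)) :=
  (κ i).homEquiv (eHom W κ E e i)

theorem Φ_eHom (i : 𝒰.I₀) {T₀ : Scheme.{u}} (t : T₀ ⟶ S) (a : T₀ ⟶ pullback (𝒰.f i) E.hom)
    (h : a ≫ (pullback.fst (𝒰.f i) E.hom ≫ 𝒰.f i) = t)
    (hx : (a ≫ pullback.fst (𝒰.f i) E.hom) ≫ 𝒰.f i = t)
    (w : Lifts (W i) (a ≫ pullback.fst (𝒰.f i) E.hom))
    (hw : w.1 = a ≫ (eHom W κ E e i).left) :
    Φ W κ i (a ≫ pullback.fst (𝒰.f i) E.hom) t hx w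
      = F.map (Over.homMk a h : Over.mk t ⟶ Tc 𝒰 E i).op (xiLoc W κ E e i) := by
  have h1 := Φ_nat W κ i a (pullback.fst (𝒰.f i) E.hom) (pullback.fst (𝒰.f i) E.hom ≫ 𝒰.f i) rfl
    (a ≫ pullback.fst (𝒰.f i) E.hom) rfl t h hx
    ⟨(eHom W κ E e i).left, Over.w (eHom W κ E e i)⟩ w hw
  rw [h1, Φ_rfl]
  rfl

theorem xiLoc_compat (i j : 𝒰.I₀) (T₀ : Scheme.{u}) (t : T₀ ⟶ S)
    (a₁ : T₀ ⟶ pullback (𝒰.f i) E.hom) (a₂ : T₀ ⟶ pullback (𝒰.f j) E.hom)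
    (h₁ : a₁ ≫ (pullback.fst (𝒰.f i) E.hom ≫ 𝒰.f i) = t)
    (h₂ : a₂ ≫ (pullback.fst (𝒰.f j) E.hom ≫ 𝒰.f j) = t)
    (h : a₁ ≫ pullback.snd (𝒰.f i) E.hom = a₂ ≫ pullback.snd (𝒰.f j) E.hom) :
    F.map (Over.homMk a₁ h₁ : Over.mk t ⟶ Tc 𝒰 E i).op (xiLoc W κ E e i)
      = F.map (Over.homMk a₂ h₂ : Over.mk t ⟶ Tc 𝒰 E j).op (xiLoc W κ E e j) := by
  have hx₀ : (a₁ ≫ pullback.fst (𝒰.f i) E.hom) ≫ 𝒰.f i = t := by rw [Category.assoc, h₁]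
  have hx₁ : (a₂ ≫ pullback.fst (𝒰.f j) E.hom) ≫ 𝒰.f j = t := by rw [Category.assoc, h₂]
  let v : Lifts ((canonicalDDFam 𝒰.f E).obj i) (a₁ ≫ pullback.fst (𝒰.f i) E.hom) := ⟨a₁, rfl⟩
  let w : Lifts (W i) (a₁ ≫ pullback.fst (𝒰.f i) E.hom) :=
    ⟨a₁ ≫ (eHom W κ E e i).left, by rw [Category.assoc, Over.w (eHom W κ E e i)]; rfl⟩
  let w₂ : Lifts (W j) (a₂ ≫ pullback.fst (𝒰.f j) E.hom) :=
    ⟨a₂ ≫ (eHom W κ E e j).left, by rw [Category.assoc, Over.w (eHom W κ E e j)]; rfl⟩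
  have hcomm := e.hom.comm (a₁ ≫ pullback.fst (𝒰.f i) E.hom) (a₂ ≫ pullback.fst (𝒰.f j) E.hom)
    (hx₀.trans hx₁.symm) v w rfl
  have hcan : (((toDDFam 𝒰.f).obj E).φ (a₁ ≫ pullback.fst (𝒰.f i) E.hom)
      (a₂ ≫ pullback.fst (𝒰.f j) E.hom) (hx₀.trans hx₁.symm) v).1 = a₂ := by
    change pullback.lift _ _ _ = a₂
    apply pullback.hom_ext
    · rw [pullback.lift_fst]
    · rw [pullback.lift_snd]
      exact h
  rw [hcan] at hcomm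
  have h3 : (DD W κ).φ (a₁ ≫ pullback.fst (𝒰.f i) E.hom) (a₂ ≫ pullback.fst (𝒰.f j) E.hom)
      (hx₀.trans hx₁.symm) w = w₂ := Subtype.ext hcomm
  rw [DD_φ W κ _ _ t hx₀ hx₁] at h3
  have h4 : φaux W κ (a₁ ≫ pullback.fst (𝒰.f i) E.hom) (a₂ ≫ pullback.fst (𝒰.f j) E.hom) t hx₀ hx₁ w
      = w₂ := h3
  have h5 := (φaux_eq_iff W κ _ _ t hx₀ hx₁ w w₂).mp h4
  rw [← Φ_eHom W κ E e i t a₁ h₁ hx₀ w rfl, ← Φ_eHom W κ E e j t a₂ h₂ hx₁ w₂ rfl, h5]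

section Tau
variable (ξ : F.obj (op E)) (hξ : ∀ i, F.map (Tι 𝒰 E i).op ξ = xiLoc W κ E e i)

/-- the comparison map. -/
def tau (T : Over S) (a : T ⟶ E) : F.obj (op T) := F.map a.op ξ

omit hξ in
theorem tau_comp {T T' : Over S} (s : T' ⟶ T) (a : T ⟶ E) :
    tau E ξ T' (s ≫ a) = F.map s.op (tau E ξ T a) := by
  change F.map (s ≫ a).op ξ = F.map s.op (F.map a.op ξ)
  rw [op_comp, Functor.map_comp]
  rfl

/-- morphisms to `E` from an object over `𝒰.X i`. -/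
noncomputable def lam (i : 𝒰.I₀) (T' : Over (𝒰.X i)) (a : (Over.map (𝒰.f i)).obj T' ⟶ E) :
    T' ⟶ Tp 𝒰 E i :=
  Over.homMk (pullback.lift T'.hom a.left (Over.w a).symm) (pullback.lift_fst _ _ _)

theorem lam_comp (i : 𝒰.I₀) (T' : Over (𝒰.X i)) (a : (Over.map (𝒰.f i)).obj T' ⟶ E) :
    (Over.map (𝒰.f i)).map (lam E i T' a) ≫ Tι 𝒰 E i = a := by
  apply Over.OverMorphism.ext
  exact pullback.lift_snd _ _ _

theorem lam_bijective (i : 𝒰.I₀) (T' : Over (𝒰.X i)) : Function.Bijective (lam E i T') := by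
  constructor
  · intro a a' h
    rw [← lam_comp E i T' a, ← lam_comp E i T' a', h]
  · intro c
    refine ⟨(Over.map (𝒰.f i)).map c ≫ Tι 𝒰 E i, ?_⟩
    apply Over.OverMorphism.ext
    apply pullback.hom_ext
    · change pullback.lift _ _ _ ≫ pullback.fst _ _ = c.left ≫ pullback.fst _ _
      rw [pullback.lift_fst]
      exact (Over.w c).symm
    · change pullback.lift _ _ _ ≫ pullback.snd _ _ = c.left ≫ pullback.snd _ _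
      rw [pullback.lift_snd]
      rfl

include hξ in
theorem tau_local (i : 𝒰.I₀) (T' : Over (𝒰.X i)) (a : (Over.map (𝒰.f i)).obj T' ⟶ E) :
    tau E ξ ((Over.map (𝒰.f i)).obj T') a = (κ i).homEquiv (lam E i T' a ≫ eHom W κ E e i) := by
  rw [(κ i).homEquiv_comp]
  change _ = F.map ((Over.map (𝒰.f i)).map (lam E i T' a)).op (xiLoc W κ E e i)
  rw [← hξ i]
  conv_lhs => rw [← lam_comp E i T' a]
  exact tau_comp E ξ _ _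

include hξ in
theorem tau_local_bijective (i : 𝒰.I₀) (T' : Over (𝒰.X i)) :
    Function.Bijective (tau E ξ ((Over.map (𝒰.f i)).obj T')) := by
  have h1 : tau E ξ ((Over.map (𝒰.f i)).obj T')
      = (κ i).homEquiv ∘ (fun c => c ≫ eHom W κ E e i) ∘ lam E i T' := by
    funext a
    exact tau_local W κ E e ξ hξ i T' a
  rw [h1]
  refine (κ i).homEquiv.bijective.comp (Function.Bijective.comp ?_ (lam_bijective E i T'))
  constructor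
  · intro c c' h
    have h2 := congrArg (fun m => m ≫ eInv W κ E e i) h
    simpa only [Category.assoc, eHom_eInv, Category.comp_id] using h2
  · intro d
    refine ⟨d ≫ eInv W κ E e i, ?_⟩
    change (d ≫ eInv W κ E e i) ≫ eHom W κ E e i = d
    rw [Category.assoc, eInv_eHom, Category.comp_id]

include hξ in
theorem tau_injective (T : Over S) : Function.Injective (tau E ξ T) := by
  intro a a' h
  have h1 : ∀ i, Tι 𝒰 T i ≫ a = Tι 𝒰 T i ≫ a' := by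
    intro i
    apply (tau_local_bijective W κ E e ξ hξ i (Tp 𝒰 T i)).1
    rw [tau_comp, tau_comp, h]
  apply Over.OverMorphism.ext
  apply (𝒰.pullback₂ T.hom).hom_ext
  intro i
  exact congrArg (fun s => s.left) (h1 i)

include hF hξ in
theorem tau_surjective (T : Over S) : Function.Surjective (tau E ξ T) := by
  intro β
  have hex : ∀ i, ∃ a : Tc 𝒰 T i ⟶ E, tau E ξ (Tc 𝒰 T i) a = F.map (Tι 𝒰 T i).op β :=
    fun i => (tau_local_bijective W κ E e ξ hξ i (Tp 𝒰 T i)).2 (F.map (Tι 𝒰 T i).op β)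
  choose a ha using hex
  let 𝒱 : Scheme.OpenCover.{u} T.left := 𝒰.pullback₂ T.hom
  have hov : ∀ i j : 𝒰.I₀,
      pullback.fst (pullback.snd (𝒰.f i) T.hom) (pullback.snd (𝒰.f j) T.hom) ≫
        ((a i).left : pullback (𝒰.f i) T.hom ⟶ E.left)
      = pullback.snd (pullback.snd (𝒰.f i) T.hom) (pullback.snd (𝒰.f j) T.hom) ≫
        ((a j).left : pullback (𝒰.f j) T.hom ⟶ E.left) := by
    intro i j
    let V' : Over (𝒰.X i) :=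
      Over.mk (pullback.fst (pullback.snd (𝒰.f i) T.hom) (pullback.snd (𝒰.f j) T.hom) ≫
        pullback.fst (𝒰.f i) T.hom)
    let p₁ : (Over.map (𝒰.f i)).obj V' ⟶ Tc 𝒰 T i :=
      Over.homMk (pullback.fst (pullback.snd (𝒰.f i) T.hom) (pullback.snd (𝒰.f j) T.hom))
        (Category.assoc _ _ _).symm
    have hc : pullback.fst (pullback.snd (𝒰.f i) T.hom) (pullback.snd (𝒰.f j) T.hom) ≫
        pullback.snd (𝒰.f i) T.hom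
        = pullback.snd (pullback.snd (𝒰.f i) T.hom) (pullback.snd (𝒰.f j) T.hom) ≫
          pullback.snd (𝒰.f j) T.hom := pullback.condition
    have hp₂ : pullback.snd (pullback.snd (𝒰.f i) T.hom) (pullback.snd (𝒰.f j) T.hom) ≫
        (pullback.fst (𝒰.f j) T.hom ≫ 𝒰.f j)
        = (pullback.fst (pullback.snd (𝒰.f i) T.hom) (pullback.snd (𝒰.f j) T.hom) ≫
          pullback.fst (𝒰.f i) T.hom) ≫ 𝒰.f i := by
      have c1 : pullback.fst (𝒰.f j) T.hom ≫ 𝒰.f j = pullback.snd (𝒰.f j) T.hom ≫ T.hom :=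
        pullback.condition
      have c2 : pullback.fst (𝒰.f i) T.hom ≫ 𝒰.f i = pullback.snd (𝒰.f i) T.hom ≫ T.hom :=
        pullback.condition
      rw [c1, Category.assoc, c2, ← Category.assoc, ← Category.assoc, hc]
    let p₂ : (Over.map (𝒰.f i)).obj V' ⟶ Tc 𝒰 T j :=
      Over.homMk (pullback.snd (pullback.snd (𝒰.f i) T.hom) (pullback.snd (𝒰.f j) T.hom)) hp₂
    have hp : p₁ ≫ Tι 𝒰 T i = p₂ ≫ Tι 𝒰 T j := by
      apply Over.OverMorphism.ext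
      exact hc
    have h2 : p₁ ≫ a i = p₂ ≫ a j := by
      apply (tau_local_bijective W κ E e ξ hξ i V').1
      rw [tau_comp, tau_comp, ha i, ha j]
      change (F.map (Tι 𝒰 T i).op ≫ F.map p₁.op) β = (F.map (Tι 𝒰 T j).op ≫ F.map p₂.op) β
      rw [← Functor.map_comp, ← Functor.map_comp, ← op_comp, ← op_comp, hp]
    exact congrArg (fun s => s.left) h2
  let al : T.left ⟶ E.left :=
    𝒱.glueMorphisms (fun i => ((a i).left : pullback (𝒰.f i) T.hom ⟶ E.left))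
      (fun i j => hov i j)
  have hgl : ∀ i : 𝒰.I₀, pullback.snd (𝒰.f i) T.hom ≫ al = (a i).left := fun i =>
    Scheme.Cover.ι_glueMorphisms 𝒱 _ (fun i j => hov i j) i
  have hal : al ≫ E.hom = T.hom := by
    apply Scheme.Cover.hom_ext 𝒱
    intro i
    change pullback.snd (𝒰.f i) T.hom ≫ al ≫ E.hom = pullback.snd (𝒰.f i) T.hom ≫ T.hom
    rw [← Category.assoc, hgl i]
    exact (Over.w (a i)).trans pullback.condition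
  let aa : T ⟶ E := Over.homMk al hal
  have haa : ∀ i, Tι 𝒰 T i ≫ aa = a i := by
    intro i
    apply Over.OverMorphism.ext
    exact hgl i
  refine ⟨aa, ?_⟩
  apply hF.sep T
  intro i
  rw [← tau_comp, haa, ha]

end Tau

include hF κ in
/-- a Zariski sheaf on `Over S` which is representable locally on `S` is representable. -/
theorem representable_of_local :
    ∃ E : Over S, Nonempty (F.RepresentableBy E) ∧ ∀ i, Nonempty (Tp 𝒰 E i ≅ W i) := by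
  obtain ⟨E, ⟨e⟩⟩ := DD_effective W κ
  obtain ⟨ξ, hξ⟩ := hF.glue E (xiLoc W κ E e) (xiLoc_compat W κ E e)
  refine ⟨E, ⟨?_⟩, fun i => ⟨eIso W κ E e i⟩⟩
  exact
    { homEquiv := fun {T} => Equiv.ofBijective (tau E ξ T)
        ⟨tau_injective W κ E e ξ hξ T, tau_surjective hF W κ E e ξ hξ T⟩
      homEquiv_comp := fun s a => tau_comp E ξ s a }

end Main

end Groth.Agent.Lib.Helper5.LocRep
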